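import Groth.Agent.L22.Cyc.OrdFrac
import Mathlib.Algebra.Module.Lattice
import Mathlib.RingTheory.Noetherian.Basic

/-!
The distance of two lattices over a one-dimensional Noetherian local domain.
-/

set_option autoImplicit false
universe u

namespace Groth.L11.IntTh

open Submodule

variable {A : Type u} [CommRing A] {V : Type u} [AddCommGroup V] [Module A V]

/-- The colength of `P` in `M`. -/
noncomputable def len (P M : Submodule A V) : ℕ∞ := Module.length A (↥M ⧸ P.submoduleOf M)

theorem len_add {P Q M : Submodule A V} (h : P ≤ Q) (h' : Q ≤ M) : len P M = len P Q + len Q M := by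
  rw [len, Groth.L22.OrdDet.length_quotient_of_le (P := P.submoduleOf M) (Q := Q.submoduleOf M) fun x hx => h hx]
  refine congrArg (· + _) (LinearEquiv.length_eq (Submodule.Quotient.equiv _ _
    (Submodule.submoduleOfEquivOfLe h') ?_))
  ext ⟨z, hz⟩
  constructor
  · rintro ⟨⟨⟨w, hw1⟩, hw2⟩, hwP, he⟩
    have : w = z := congrArg Subtype.val he
    subst this
    exact hwP
  · intro hzP
    exact ⟨⟨⟨z, h' hz⟩, hz⟩, hzP, rfl⟩

variable [IsDomain A] (K : Type u) [Field K] [Algebra A K] [IsFractionRing A K] [Module K V]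
  [IsScalarTower A K V]

theorem exists_smul_mem (N : Submodule A V) [Submodule.IsLattice K N] (x : V) :
    ∃ c : A, c ≠ 0 ∧ c • x ∈ N := by
  have hx : x ∈ Submodule.span K (N : Set V) := by rw [Submodule.IsLattice.span_eq_top]; trivial
  induction hx using Submodule.span_induction with
  | mem y hy => exact ⟨1, one_ne_zero, by rwa [one_smul]⟩
  | zero => exact ⟨1, one_ne_zero, by rw [smul_zero]; exact N.zero_mem⟩
  | add y z _ _ ihy ihz =>
    obtain ⟨c, hc, hcy⟩ := ihy
    obtain ⟨d, hd, hdz⟩ := ihz
    refine ⟨c * d, mul_ne_zero hc hd, ?_⟩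
    rw [smul_add, mul_comm c d, mul_smul, mul_comm d c, mul_smul c d z]
    exact N.add_mem (N.smul_mem d hcy) (N.smul_mem c hdz)
  | smul r y _ ih =>
    obtain ⟨c, hc, hcy⟩ := ih
    obtain ⟨a, b, hb, rfl⟩ := IsFractionRing.div_surjective (A := A) r
    refine ⟨b * c, mul_ne_zero (nonZeroDivisors.ne_zero hb) hc, ?_⟩
    have hbK : algebraMap A K b ≠ 0 := IsFractionRing.to_map_ne_zero_of_mem_nonZeroDivisors hb
    have heq : (b * c) • (algebraMap A K a / algebraMap A K b) • y = a • c • y := by
      rw [← algebraMap_smul K (b * c), smul_smul, smul_smul, ← algebraMap_smul K (a * c) y, map_mul, map_mul]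
      congr 1
      field_simp
    rw [heq]
    exact N.smul_mem a hcy

theorem exists_smul_le (M N : Submodule A V) [Submodule.IsLattice K M] [Submodule.IsLattice K N] :
    ∃ c : A, c ≠ 0 ∧ ∀ x ∈ M, c • x ∈ N := by
  classical
  obtain ⟨s, hs⟩ := Submodule.IsLattice.fg (A := K) (M := M)
  choose c hc hcN using fun x : V => exists_smul_mem K N x
  refine ⟨∏ x ∈ s, c x, Finset.prod_ne_zero_iff.mpr fun x _ => hc x, fun x hx => ?_⟩
  rw [← hs] at hx
  induction hx using Submodule.span_induction with
  | mem y hy =>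
    rw [← Finset.prod_erase_mul _ _ hy, mul_smul]
    exact N.smul_mem _ (hcN y)
  | zero => rw [smul_zero]; exact N.zero_mem
  | add y z _ _ ihy ihz => rw [smul_add]; exact N.add_mem ihy ihz
  | smul r y _ ih => rw [smul_comm]; exact N.smul_mem r ih

theorem isLattice_inf [IsNoetherianRing A] (M N : Submodule A V) [Submodule.IsLattice K M]
    [Submodule.IsLattice K N] : Submodule.IsLattice K (M ⊓ N) := by
  refine ⟨Submodule.FG.of_le (Submodule.IsLattice.fg (A := K) (M := M)) inf_le_left, top_le_iff.mp ?_⟩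
  rw [← Submodule.IsLattice.span_eq_top (A := K) (M := M), Submodule.span_le]
  intro x hx
  obtain ⟨c, hc, hcx⟩ := exists_smul_mem K N x
  have hcK : algebraMap A K c ≠ 0 := (map_ne_zero_iff _ (IsFractionRing.injective A K)).mpr hc
  rw [SetLike.mem_coe, show x = (algebraMap A K c)⁻¹ • (c • x) by rw [← algebraMap_smul K c, inv_smul_smul₀ hcK]]
  exact Submodule.smul_mem _ _ (Submodule.subset_span ⟨M.smul_mem c hx, hcx⟩)

variable [IsNoetherianRing A] [IsLocalRing A] [Ring.KrullDimLE 1 A]

theorem len_ne_top (L M : Submodule A V) [Submodule.IsLattice K L] [Submodule.IsLattice K M] :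
    len L M ≠ ⊤ := by
  haveI : Module.Finite A M := Module.Finite.iff_fg.mpr (Submodule.IsLattice.fg (A := K) (M := M))
  refine Groth.L22.OrdDet.length_quotient_ne_top _ fun x => ?_
  obtain ⟨c, hc, hcx⟩ := exists_smul_mem K L (x : V)
  exact ⟨c, hc, hcx⟩

/-- The distance of two lattices can be measured through any common sublattice. -/
theorem dist_eq (M N L : Submodule A V) [Submodule.IsLattice K M] [Submodule.IsLattice K N]
    [Submodule.IsLattice K L] (hM : L ≤ M) (hN : L ≤ N) :
    ((Module.length A (↥M ⧸ (M ⊓ N).submoduleOf M)).toNat : ℤ) -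
        ((Module.length A (↥N ⧸ (M ⊓ N).submoduleOf N)).toNat : ℤ) =
      ((len L M).toNat : ℤ) - ((len L N).toNat : ℤ) := by
  haveI := isLattice_inf K M N
  rw [len_add (le_inf hM hN) (inf_le_left (b := N)), len_add (le_inf hM hN) (inf_le_right (a := M)),
    ENat.toNat_add (len_ne_top K _ _) (len_ne_top K _ _), ENat.toNat_add (len_ne_top K _ _) (len_ne_top K _ _)]
  simp only [len]
  push_cast
  ring

end Groth.L11.IntTh
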