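import Mathlib.RingTheory.PowerSeries.Exp
import Mathlib.RingTheory.PowerSeries.Derivative
import Mathlib.RingTheory.PowerSeries.Inverse
import Mathlib.RingTheory.Binomial
import Mathlib.NumberTheory.Bernoulli

/-! The Todd series and Lagrange inversion for it. -/

namespace Groth.L11.ToddSeries

open PowerSeries

theorem exp_sub_one_ne_zero : exp ℚ - 1 ≠ 0 := by
  intro h
  have := congrArg (coeff 1) h
  simp at this

variable {f : PowerSeries ℚ} (hf : f * (exp ℚ - 1) = X * exp ℚ)
include hf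

theorem constantCoeff_eq_one : constantCoeff f = 1 := by
  have := congrArg (coeff 1) hf
  rw [coeff_succ_X_mul, coeff_mul, Finset.Nat.sum_antidiagonal_succ, Finset.Nat.antidiagonal_zero,
    Finset.sum_singleton] at this
  simpa using this

theorem riccati : X * d⁄dX ℚ f = f - f ^ 2 + X * f := by
  have h1 : d⁄dX ℚ (f * (exp ℚ - 1)) = d⁄dX ℚ (X * exp ℚ) := by rw [hf]
  rw [Derivation.leibniz, Derivation.leibniz, map_sub, Derivation.map_one_eq_zero, sub_zero, derivative_exp,
    derivative_X] at h1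
  simp only [smul_eq_mul, mul_one] at h1
  refine mul_right_cancel₀ exp_sub_one_ne_zero ?_
  linear_combination X * h1 + (f - 1 - X) * hf

theorem coeff_pow_succ (n : ℕ) : coeff n (f ^ (n + 1)) = 1 := by
  induction n with
  | zero => simpa using constantCoeff_eq_one hf
  | succ n ih =>
    have h : X * d⁄dX ℚ (f ^ (n + 1)) =
        C ((n + 1 : ℕ) : ℚ) * (f ^ (n + 1) - f ^ (n + 2) + X * f ^ (n + 1)) := by
      rw [derivative_pow, map_natCast, Nat.add_sub_cancel]
      linear_combination ((n + 1 : ℕ) : PowerSeries ℚ) * f ^ n * riccati hf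
    have := congrArg (coeff (n + 1)) h
    rw [coeff_succ_X_mul, coeff_derivative, coeff_C_mul, map_add, map_sub, coeff_succ_X_mul, ih] at this
    have hn : ((n + 1 : ℕ) : ℚ) ≠ 0 := by positivity
    rw [mul_comm, Nat.cast_succ] at this
    have h2 := mul_left_cancel₀ (by positivity) this
    linarith

theorem coeff_exp_mul_pow_succ (m : ℤ) (n : ℕ) :
    coeff n (rescale (m : ℚ) (exp ℚ) * f ^ (n + 1)) = ((Ring.choose (m + n : ℤ) n : ℤ) : ℚ) := by
  induction n generalizing m with
  | zero => simp [constantCoeff_eq_one hf, ← coeff_zero_eq_constantCoeff_apply, coeff_mul]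
  | succ n ih =>
    -- recursion in `m`
    have step : ∀ j : ℤ, coeff (n + 1) (rescale (j : ℚ) (exp ℚ) * f ^ (n + 2)) =
        coeff (n + 1) (rescale ((j - 1 : ℤ) : ℚ) (exp ℚ) * f ^ (n + 2)) + ((Ring.choose (j + n) n : ℤ) : ℚ) := by
      intro j
      have hE : rescale (j : ℚ) (exp ℚ) = rescale ((j - 1 : ℤ) : ℚ) (exp ℚ) * exp ℚ := by
        have := exp_mul_exp_eq_exp_add (A := ℚ) ((j - 1 : ℤ) : ℚ) 1
        rw [rescale_one, RingHom.id_apply] at this
        rw [this]; push_cast; ring_nf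
      rw [← ih j, ← coeff_succ_X_mul n (rescale (j : ℚ) (exp ℚ) * f ^ (n + 1)), ← map_add, hE]
      congr 1
      linear_combination rescale ((j - 1 : ℤ) : ℚ) (exp ℚ) * f ^ (n + 1) * hf
    induction m using Int.induction_on with
    | zero =>
      simp only [Int.cast_zero, zero_add, rescale_zero_apply, constantCoeff_exp, map_one, one_mul]
      rw [coeff_pow_succ hf, Ring.choose_natCast, Nat.choose_self]; simp
    | succ j hj =>
      rw [step, add_sub_cancel_right, hj, ← Int.cast_add]
      congr 1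
      rw [show (j : ℤ) + 1 + ((n + 1 : ℕ) : ℤ) = (j : ℤ) + ((n + 1 : ℕ) : ℤ) + 1 by ring, Ring.choose_succ_succ]
      push_cast; ring_nf
    | pred j hj =>
      have h := step (-(j : ℤ))
      rw [hj] at h
      rw [eq_sub_of_add_eq h.symm, ← Int.cast_sub]
      congr 1
      rw [show (-(j : ℤ) + ((n + 1 : ℕ) : ℤ)) = (-(j : ℤ) - 1 + ((n + 1 : ℕ) : ℤ)) + 1 by ring, Ring.choose_succ_succ,
        show (-(j : ℤ) + n) = -(j : ℤ) - 1 + ((n + 1 : ℕ) : ℤ) by push_cast; ring]
      ring

omit hf

theorem eq_of_forall_coeff_pow_succ {f g : PowerSeries ℚ}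
    (h : ∀ n, coeff n (f ^ (n + 1)) = 1) (h' : ∀ n, coeff n (g ^ (n + 1)) = 1) : f = g := by
  have hf0 : constantCoeff f = 1 := by simpa using h 0
  have hg0 : constantCoeff g = 1 := by simpa using h' 0
  ext n
  induction n using Nat.strong_induction_on with
  | _ n ih =>
    obtain ⟨d, hd⟩ : X ^ n ∣ f - g := X_pow_dvd_iff.2 fun k hk => by rw [map_sub, ih k hk, sub_self]
    have h1 : coeff n (f ^ (n + 1) - g ^ (n + 1)) = 0 := by rw [map_sub, h, h', sub_self]
    rw [← geom_sum₂_mul, hd, mul_comm, mul_assoc] at h1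
    have hk : ∀ p : PowerSeries ℚ, coeff n (X ^ n * p) = constantCoeff p := fun p => by
      simpa using coeff_X_pow_mul p n 0
    rw [hk, map_mul, map_sum, Finset.sum_congr rfl fun i _ => show
      constantCoeff (f ^ i * g ^ (n + 1 - 1 - i)) = 1 by simp [hf0, hg0]] at h1
    have h2 : constantCoeff d = 0 := by
      rcases mul_eq_zero.1 h1 with h2 | h2
      · exact h2
      · exfalso; simp at h2; linarith [(n.cast_nonneg : (0 : ℚ) ≤ n)]
    rw [← sub_eq_zero, ← map_sub, hd, hk, h2]

theorem exists_todd : ∃ f : PowerSeries ℚ, f * (exp ℚ - 1) = X * exp ℚ :=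
  ⟨bernoulli'PowerSeries ℚ, bernoulli'PowerSeries_mul_exp_sub_one ℚ⟩

end Groth.L11.ToddSeries
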